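import Groth.Agent.GpCohX.Averaging
import Mathlib.RepresentationTheory.Homological.GroupCohomology.LongExactSequence
import Mathlib.RingTheory.Henselian
import Mathlib.RingTheory.LocalRing.ResidueField.Basic
import Mathlib.Algebra.CharP.Basic

/-! Group cohomology of units of a henselian local ring and of its residue field. -/

universe u

open CategoryTheory Limits

namespace Groth.Agent.GalHens

theorem subsingleton_of_nsmul_bijective {k G : Type u} [CommRing k] [Group G] [Finite G] (A : Rep.{u} k G)
    (h : Function.Bijective fun a : A => Nat.card G • a) {i : ℕ} (hi : 0 < i) :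
    Subsingleton (groupCohomology A i) := by
  have := Fintype.ofFinite G
  let e : A ≃ₗ[k] A := LinearEquiv.ofBijective (Nat.card G • LinearMap.id) h
  refine GpCohX.subsingleton_of_normEnd_eq A e.symm.toLinearMap (fun a => ?_) hi
  have he : ∀ a : A, Nat.card G • e.symm a = a := fun a => e.apply_symm_apply a
  have hρ : ∀ (g : G) (a : A), A.ρ g (e.symm a) = e.symm (A.ρ g a) := fun g a => by
    apply h.1
    show Nat.card G • A.ρ g (e.symm a) = Nat.card G • e.symm (A.ρ g a)
    rw [he, ← map_nsmul, he]
  rw [GpCohX.normEnd_apply]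
  simp only [LinearEquiv.coe_coe, hρ, Representation.self_inv_apply]
  rw [Finset.sum_const, Finset.card_univ, ← Nat.card_eq_fintype_card, he]

theorem bijective_map_of_subsingleton {k G : Type u} [CommRing k] [Group G] {X : ShortComplex (Rep.{u} k G)}
    (hX : X.ShortExact) {n : ℕ} (h1 : Subsingleton (groupCohomology X.X₁ n))
    (h2 : Subsingleton (groupCohomology X.X₁ (n + 1))) :
    Function.Bijective ((groupCohomology.functor k G n).map X.g).hom := by
  refine ⟨?_, ?_⟩
  · refine (injective_iff_map_eq_zero _).2 fun x hx => ?_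
    obtain ⟨y, rfl⟩ := (ShortComplex.moduleCat_exact_iff _).1 (groupCohomology.mapShortComplex₂_exact hX n) x hx
    rw [@Subsingleton.elim _ h1 y 0]
    exact map_zero _
  · intro z
    exact (ShortComplex.moduleCat_exact_iff _).1 (groupCohomology.mapShortComplex₃_exact hX (i := n) rfl) z
      (@Subsingleton.elim _ h2 _ _)

theorem exact_elements {k G : Type u} [CommRing k] [Group G] {X : ShortComplex (Rep.{u} k G)} (hX : X.ShortExact) :
    (∀ b, X.g.hom b = 0 → ∃ a, X.f.hom a = b) ∧ ∀ a, X.g.hom (X.f.hom a) = 0 :=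
  ⟨(ShortComplex.moduleCat_exact_iff _).1 (hX.exact.map (forget₂ (Rep k G) (ModuleCat k))),
    fun a => (ConcreteCategory.congr_hom ((forget₂ (Rep k G) (ModuleCat k)).congr_map X.zero) a :)⟩

/-- Roots of units congruent to one in a henselian local ring. -/
theorem existsUnique_root {R : Type u} [CommRing R] [HenselianLocalRing R] {N : ℕ}
    (hN : (N : IsLocalRing.ResidueField R) ≠ 0) (x : Rˣ) (hx : IsLocalRing.residue R x = 1) :
    ∃! y : Rˣ, IsLocalRing.residue R y = 1 ∧ y ^ N = x := by
  have hN0 : N ≠ 0 := fun h => hN (by rw [h, Nat.cast_zero])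
  have hNu : IsUnit (N : R) := by
    rw [← IsLocalRing.residue_ne_zero_iff_isUnit, map_natCast]
    exact hN
  open Polynomial in
  obtain ⟨a, ha, ha1⟩ := HenselianLocalRing.is_henselian (X ^ N - C (x : R)) (monic_X_pow_sub_C _ hN0) 1
    (by rw [← IsLocalRing.residue_eq_zero_iff]; simp [hx])
    (by simpa [derivative_X_pow] using hNu)
  have hra : IsLocalRing.residue R a = 1 := by
    rw [← sub_eq_zero, ← map_one (IsLocalRing.residue R), ← map_sub, IsLocalRing.residue_eq_zero_iff]
    exact ha1
  have hua : IsUnit a := by rw [← IsLocalRing.residue_ne_zero_iff_isUnit, hra]; exact one_ne_zero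
  have haN : a ^ N = x := by simpa [sub_eq_zero] using ha
  refine ⟨hua.unit, ⟨hra, Units.ext haN⟩, ?_⟩
  rintro y ⟨hy, hyN⟩
  set z := y * hua.unit⁻¹ with hzdef
  have hz : z ^ N = 1 := by
    rw [hzdef, mul_pow, inv_pow, hyN, show hua.unit ^ N = x from Units.ext haN, mul_inv_cancel]
  have hrz : IsLocalRing.residue R (z : R) = 1 := by
    have h : IsLocalRing.residue R ((z : R) * a) = IsLocalRing.residue R (y : R) := by
      rw [show a = ((hua.unit : Rˣ) : R) from rfl, ← Units.val_mul, hzdef, inv_mul_cancel_right]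
    rwa [map_mul, hra, mul_one, hy] at h
  have hgeom : IsUnit (∑ i ∈ Finset.range N, (z : R) ^ i) := by
    rw [← IsLocalRing.residue_ne_zero_iff_isUnit, map_sum]
    simpa [hrz] using hN
  have h0 : (∑ i ∈ Finset.range N, (z : R) ^ i) * ((z : R) - 1) = 0 := by
    rw [geom_sum_mul, ← Units.val_pow_eq_pow_val, hz, Units.val_one, sub_self]
  have hz1 : z = 1 := Units.ext (sub_eq_zero.1 ((hgeom.mul_right_eq_zero).1 h0))
  exact mul_inv_eq_one.1 hz1

end Groth.Agent.GalHens
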